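import Groth.Agent.QCoh.LocFree
import Groth.Agent.InvX.Tensor
import Groth.Agent.DefoConnLib.ExtBij

/-! Local splittings of deformations of locally free modules. -/

set_option linter.style.haveILetI false
set_option backward.isDefEq.respectTransparency false
set_option backward.isDefEq.respectTransparency.types false

universe u

open CategoryTheory CategoryTheory.Limits AlgebraicGeometry Opposite TopologicalSpace

namespace Groth.Agent.DefoTriv

open Groth.Agent

variable {X : Scheme.{u}}

theorem hom_ext_one {L : X.Modules} (a b : Coh.structureModule X ⟶ L) (h : InvX.one a = InvX.one b) : a = b := by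
  refine Scheme.Modules.hom_ext a b fun W => ?_
  refine ConcreteCategory.hom_ext _ _ fun r => ?_
  have ha := InvX.app_eq_smul a (show Γ(X, W) from r)
  have hb := InvX.app_eq_smul b (show Γ(X, W) from r)
  rw [h] at ha
  exact ha.trans hb.symm

theorem unitIso_inv_one {W : Scheme.{u}} (j : W ⟶ X) [IsOpenImmersion j] :
    (Scheme.Modules.restrictUnitIso j).inv.app ⊤ (1 : Γ(W, ⊤)) =
      (show Γ((Coh.structureModule X).restrict j, ⊤) from (1 : Γ(X, j ''ᵁ ⊤))) := by
  exact map_one (j.appIso ⊤).inv.hom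

/-- A stalkwise surjection onto a free module has sections locally. -/
theorem exists_section_nhd {M : X.Modules} {n : ℕ} (p : M ⟶ FlatMod.freeMod X n) (x : X)
    (hp : Function.Surjective (RefHull.stalkMapₗ p x)) :
    ∃ W : X.Opens, x ∈ W ∧ ∃ σ : (FlatMod.freeMod X n).restrict W.ι ⟶ M.restrict W.ι,
      σ ≫ (Scheme.Modules.restrictFunctor W.ι).map p = 𝟙 _ := by
  classical
  let N := FlatMod.freeMod X n
  let b : Fin n → Γ(N, ⊤) := fun i => InvX.one (Sigma.ι (fun _ : Fin n => Coh.structureModule X) i)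
  have key : ∀ i : Fin n, ∃ (V : X.Opens) (_ : x ∈ V) (t : Γ(M, V)), p.app V t = AModX.res N (le_top : V ≤ ⊤) (b i) := by
    intro i
    obtain ⟨v, hv⟩ := hp (N.presheaf.germ ⊤ x trivial (b i))
    obtain ⟨V, hV, t, rfl⟩ := TopCat.Presheaf.exists_germ_eq M.presheaf v
    rw [RefHull.stalkMapₗ_germ] at hv
    obtain ⟨W, hW, i₁, i₂, he⟩ := TopCat.Presheaf.germ_eq N.presheaf x hV (show x ∈ (⊤ : X.Opens) from trivial) _ _ hv
    refine ⟨W, hW, M.presheaf.map i₁.op t, ?_⟩
    refine Eq.trans ?_ he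
    exact congr($(p.mapPresheaf.naturality i₁.op) t)
  choose V hV t ht using key
  let W : X.Opens := Finset.univ.inf V
  have hxW : x ∈ W := by
    suffices ∀ s : Finset (Fin n), x ∈ s.inf V from this _
    intro s
    induction s using Finset.induction_on with
    | empty => trivial
    | insert a s _ ih => rw [Finset.inf_insert]; exact ⟨hV a, ih⟩
  refine ⟨W, hxW, ?_⟩
  have hle : ∀ i, W.ι ''ᵁ ⊤ ≤ V i := fun i => W.ι_image_top.le.trans (Finset.inf_le (Finset.mem_univ i))
  let s : ∀ i, Γ(M.restrict W.ι, ⊤) := fun i => AModX.res M (hle i) (t i)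
  let F := QCoh.freeModRestrict W.ι n
  refine ⟨F.hom ≫ Sigma.desc (fun i => InvX.ofSect (s i)), ?_⟩
  rw [← cancel_epi F.inv, Category.assoc, Iso.inv_hom_id_assoc, Category.comp_id]
  refine Sigma.hom_ext _ _ fun i => ?_
  rw [colimit.ι_desc_assoc]
  have hinv : Sigma.ι (fun _ : Fin n => Coh.structureModule (W : Scheme.{u})) i ≫ F.inv =
      (Scheme.Modules.restrictUnitIso W.ι).inv ≫
        (Scheme.Modules.restrictFunctor W.ι).map (Sigma.ι (fun _ : Fin n => Coh.structureModule X) i) := by
    simp [F, QCoh.freeModRestrict]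
  rw [hinv]
  refine hom_ext_one _ _ ?_
  have hl : InvX.one (InvX.ofSect (s i) ≫ (Scheme.Modules.restrictFunctor W.ι).map p) =
      ((Scheme.Modules.restrictFunctor W.ι).map p).app ⊤ (InvX.one (InvX.ofSect (s i))) := rfl
  refine hl.trans ?_
  rw [InvX.one_ofSect]
  show p.app (W.ι ''ᵁ ⊤) (AModX.res M (hle i) (t i)) = _
  refine (congr($(p.mapPresheaf.naturality (homOfLE (hle i)).op) (t i))).trans ?_
  refine (congrArg (AModX.res N (hle i)) (ht i)).trans ?_
  rw [AModX.res_res]
  show _ = (Sigma.ι (fun _ : Fin n => Coh.structureModule X) i).app (W.ι ''ᵁ ⊤)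
    ((Scheme.Modules.restrictUnitIso W.ι).inv.app ⊤ (1 : Γ((W : Scheme.{u}), ⊤)))
  rw [unitIso_inv_one]
  exact (one_smul _ _).symm.trans (InvX.app_eq_smul _ (1 : Γ(X, W.ι ''ᵁ ⊤))).symm

/-- Constants commute with morphisms over an open. -/
theorem map_smulModΓ_comm {Y : Scheme.{u}} (j : Y ⟶ X) [IsOpenImmersion j] (r : Coh.Γtop X) {M N : X.Modules}
    (f : M.restrict j ⟶ N.restrict j) :
    (Scheme.Modules.restrictFunctor j).map (Formal.smulModΓ M r) ≫ f =
      f ≫ (Scheme.Modules.restrictFunctor j).map (Formal.smulModΓ N r) := by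
  refine Scheme.Modules.hom_ext _ _ fun V => ?_
  refine ConcreteCategory.hom_ext _ _ fun m => ?_
  let c : Γ(X, j ''ᵁ V) := X.presheaf.map (homOfLE (le_top : j ''ᵁ V ≤ ⊤)).op r
  have key := Scheme.Modules.Hom.app_smul f ((j.appIso V).hom c) m
  have hM : ∀ (L : X.Modules) (z : Γ(L, j ''ᵁ V)),
      (((j.appIso V).hom c) • (show Γ(L.restrict j, V) from z)) = (show Γ(L.restrict j, V) from c • z) := fun L z => by
    show ((j.appIso V).inv ((j.appIso V).hom c)) • z = _
    rw [Iso.hom_inv_id_apply]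
  rw [hM M m, hM N (f.app V m)] at key
  exact key

end Groth.Agent.DefoTriv
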